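import Mathlib
import Cfsg.Prelude.Def_JComponents
import Cfsg.Agent.Lib.Helper15.KS12.FourGroup
import Cfsg.Agent.Lib.Helper2.KS12.PZ
import Cfsg.Agent.Lib.Helper11.KS12.FF1D
import Cfsg.Agent.Lib.Helper25.KS12.FF2Core
import Cfsg.Agent.Lib.Helper85.KS12.JSylow

/-!
Kurzweil–Stellmacher Chapter 12, packages FF2 and FF3: for `L ∈ jOvergroups T` (in a group where
the 2-locals are solvable and `C_G(Ω₁(Z(S))) ≤ N_G(S)` for the Sylow 2-subgroups `S`), `L` is
generated by its `J(T)`-components and `N_L(J(T))`, and `L` contains a `J(T)`-component.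
-/

set_option autoImplicit false

namespace Cfsg.Agent.Lib.Helper15.KS12

open Subgroup Cfsg
open Cfsg.Agent.Lib.Helper2.KS12 (CL VL)
open scoped commutatorElement

variable {G : Type*} [Group G]

/-- The "bad factor" lemma: a subgroup `D ≤ L` with `[D, J(T)] ≤ C_L(V)` normalizes `J(T)`. -/
theorem le_normalizer_thompson_of_comm_le [Finite G]
    (hZ : ∀ S : Sylow 2 G, Subgroup.centralizer (Cfsg.omegaCenterOf (S : Subgroup G) : Set G) ≤
      Subgroup.normalizer ((S : Subgroup G) : Set G))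
    {T L : Subgroup G} (hT : IsSylowTwoIn T L)
    (hCQ : Subgroup.centralizer (pCoreOf 2 L : Set G) ≤ pCoreOf 2 L)
    {D : Subgroup G} (hD : ⁅D, thompsonSubgroupOf 2 T⁆ ≤ CL L) :
    D ≤ Subgroup.normalizer (thompsonSubgroupOf 2 T : Set G) := by
  have hT2 : IsPGroup 2 T := hT.2.1
  have hTL : T ≤ L := hT.1
  have hRC : pCoreOf 2 L ≤ CL L := Cfsg.Agent.Lib.Helper2.KS12.pCoreOf_le_CL L
  have hLR : L ≤ normalizer (pCoreOf 2 L : Set G) :=
    Cfsg.Agent.Lib.Helper47.le_normalizer_pCoreOf 2 L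
  have hCR : CL L ≤ normalizer (pCoreOf 2 L : Set G) :=
    (Cfsg.Agent.Lib.Helper2.KS12.CL_le L).trans hLR
  have hTR : T ≤ normalizer (pCoreOf 2 L : Set G) := hTL.trans hLR
  have hCodd : Odd ((pCoreOf 2 L).relIndex (CL L)) :=
    (Cfsg.Agent.Lib.Helper2.KS12.isSylowTwoIn_pCoreOf_CL hZ hT hCQ).2.2
  have hCT : ⁅CL L, T⁆ ≤ pCoreOf 2 L := Cfsg.Agent.Lib.Helper2.KS12.comm_CL_le hZ hT hCQ
  have hRT : pCoreOf 2 L ≤ T := Cfsg.Agent.Lib.Helper2.KS12.pCoreOf_le_of_isSylowTwoIn hT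
  have hJT : thompsonSubgroupOf 2 T ≤ T := Cfsg.Agent.Lib.Helper11.thompsonSubgroupOf_le 2 T
  rw [Subgroup.commutator_le] at hD
  -- conjugates of elements of `J` by elements of `D` lie in `T`
  have key : ∀ d ∈ D, ∀ j ∈ thompsonSubgroupOf 2 T, d * j * d⁻¹ ∈ T := by
    intro d hd j hj
    have hc : ⁅d, j⁆ ∈ CL L := hD d hd j hj
    have hcR : ⁅d, j⁆ ∈ pCoreOf 2 L := by
      apply Cfsg.Agent.Lib.Helper25.KS12.mem_of_conj_eq_mul hT2 hRC hCR hTR hCodd hCT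
        (t := j) (d := d⁻¹) (hJT hj) hc
      rw [commutatorElement_def]; group
    have e : d * j * d⁻¹ = ⁅d, j⁆ * j := by rw [commutatorElement_def]; group
    rw [e]
    exact T.mul_mem (hRT hcR) (hJT hj)
  intro d hd
  -- `J(T) ≤ T^(d⁻¹)`
  have hle : thompsonSubgroupOf 2 T ≤ T.map (MulAut.conj d⁻¹).toMonoidHom := by
    intro j hj
    refine ⟨d * j * d⁻¹, key d hd j hj, ?_⟩
    simp only [MulEquiv.coe_toMonoidHom, MulAut.conj_apply]
    group
  have h1 := Cfsg.Agent.Lib.Helper85.KS12.thompsonSubgroupOf_conj_eq_of_le (p := 2) T d⁻¹ hle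
  have h2 := Cfsg.Agent.Lib.Helper11.thompsonSubgroupOf_map 2 (MulAut.conj d⁻¹).toMonoidHom
    (MulAut.conj d⁻¹).injective T
  rw [h1] at h2
  -- h2 : J(T) = J(T).map (conj d⁻¹)
  have h3 : d⁻¹ ∈ Subgroup.normalizer (thompsonSubgroupOf 2 T : Set G) :=
    Cfsg.Agent.Lib.Helper11.mem_normalizer_of_map_conj_eq h2.symm
  have h4 := Subgroup.inv_mem _ h3
  rwa [inv_inv] at h4

/-- **FF3**: `L` is generated by its `J(T)`-components and `N_L(J(T))`. -/
theorem genByJComponents [Finite G]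
    (hN : ∀ N : Subgroup G, Cfsg.IsTwoLocal N → Group.IsSolvable ↥N)
    (hZ : ∀ S : Sylow 2 G, Subgroup.centralizer (Cfsg.omegaCenterOf (S : Subgroup G) : Set G) ≤
      Subgroup.normalizer ((S : Subgroup G) : Set G))
    {T L : Subgroup G} (hT1 : T ≠ ⊥) (hLT : L ∈ jOvergroups T) :
    Cfsg.Agent.Lib.Helper85.KS12.GenByJComponents T L := by
  obtain ⟨hT, hJQ, hCQ⟩ := hLT
  have hLT' : L ∈ jOvergroups T := ⟨hT, hJQ, hCQ⟩
  have hTL : T ≤ L := hT.1
  obtain ⟨n, D, hD, hcov⟩ := Cfsg.Agent.Lib.Helper11.KS12.ff1_D hN hZ hT1 hLT'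
  have hNTJ : normalizer (T : Set G) ≤ normalizer (thompsonSubgroupOf 2 T : Set G) :=
    Cfsg.Agent.Lib.Helper11.normalizer_le_normalizer_thompsonSubgroupOf 2 T
  have hCNJ : CL L ≤ L ⊓ normalizer (thompsonSubgroupOf 2 T : Set G) :=
    le_inf (Cfsg.Agent.Lib.Helper2.KS12.CL_le L)
      ((Cfsg.Agent.Lib.Helper2.KS12.CL_le_normalizer hZ hT hCQ).trans hNTJ)
  have hTNJ : T ≤ L ⊓ normalizer (thompsonSubgroupOf 2 T : Set G) :=
    le_inf hTL (le_normalizer.trans hNTJ)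
  have hDi : ∀ i, D i ≤ sSup {K : Subgroup G | IsJComponent T K ∧ K ≤ L} ⊔
      (L ⊓ normalizer (thompsonSubgroupOf 2 T : Set G)) := by
    intro i
    obtain ⟨hCD, hDL, hidx, hJD⟩ := hD i
    by_cases hbad : ⁅D i, thompsonSubgroupOf 2 T⁆ ≤ CL L
    · exact le_sup_of_le_right
        (le_inf hDL (le_normalizer_thompson_of_comm_le hZ hT hCQ hbad))
    · obtain ⟨K, hK, hKD, hKC, -, -⟩ :=
        Cfsg.Agent.Lib.Helper25.KS12.exists_jComponent_core T L (pCoreOf 2 L) (CL L) (D i) hT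
          (Cfsg.Agent.Lib.Helper2.KS12.pCoreOf_le_of_isSylowTwoIn hT)
          (Cfsg.Agent.Lib.Helper47.le_normalizer_pCoreOf 2 L)
          (Cfsg.Agent.Lib.Helper2.KS12.pCoreOf_le_CL L) hCD hDL
          (Cfsg.Agent.Lib.Helper2.KS12.le_normalizer_CL L)
          (Cfsg.Agent.Lib.Helper2.KS12.isSylowTwoIn_pCoreOf_CL hZ hT hCQ).2.2
          (Cfsg.Agent.Lib.Helper2.KS12.comm_CL_le hZ hT hCQ)
          (fun x hx hxc => ⟨hDL hx, hxc⟩) hidx hJD hbad
          (fun K h1 h2 h3 hWT hW => card_wOf_eq_four T K h1 h2 h3 hWT hW)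
      rw [← hKC]
      exact sup_le_sup (le_sSup ⟨hK, hKD.trans hDL⟩) hCNJ
  apply Cfsg.Agent.Lib.Helper85.KS12.genByJComponents_of_conj hT (le_refl _)
  intro l hl
  refine (hcov l hl).trans (sup_le (iSup_le hDi) (le_sup_of_le_right hTNJ))

/-- **FF2 (existence)**: every `L ∈ jOvergroups T` contains a `J(T)`-component. -/
theorem exists_jComponent_le [Finite G]
    (hN : ∀ N : Subgroup G, Cfsg.IsTwoLocal N → Group.IsSolvable ↥N)
    (hZ : ∀ S : Sylow 2 G, Subgroup.centralizer (Cfsg.omegaCenterOf (S : Subgroup G) : Set G) ≤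
      Subgroup.normalizer ((S : Subgroup G) : Set G))
    {T L : Subgroup G} (hT1 : T ≠ ⊥) (hLT : L ∈ jOvergroups T) :
    ∃ K : Subgroup G, IsJComponent T K ∧ K ≤ L := by
  have hgen := genByJComponents hN hZ hT1 hLT
  obtain ⟨hT, hJQ, hCQ⟩ := hLT
  by_contra hcon
  push Not at hcon
  apply hJQ
  have hempty : {K : Subgroup G | IsJComponent T K ∧ K ≤ L} = ∅ := by
    ext K
    constructor
    · intro h
      exact (hcon K h.1 h.2).elim
    · intro h
      exact h.elim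
  unfold Cfsg.Agent.Lib.Helper85.KS12.GenByJComponents at hgen
  rw [hempty, sSup_empty, bot_sup_eq] at hgen
  have hLN : L ≤ normalizer (thompsonSubgroupOf 2 T : Set G) := hgen.trans inf_le_right
  have hJT : thompsonSubgroupOf 2 T ≤ T := Cfsg.Agent.Lib.Helper11.thompsonSubgroupOf_le 2 T
  exact Cfsg.Agent.Lib.Helper47.le_pCoreOf_of_le_normalizer (hT.2.1.to_le hJT) (hJT.trans hT.1) hLN

end Cfsg.Agent.Lib.Helper15.KS12
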